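import Groth.Agent.KZ.LFDev
import Groth.Agent.KZ.ClosedDev
import Groth.Agent.QCoh.DevissageP
import Groth.Agent.QCoh.TensorUnit
import Groth.Agent.SiteBase.ModGroth
import Groth.Agent.PushAmp.PushPC
import Mathlib.Algebra.Homology.ShortComplex.ExactFunctor

/-! Dévissage for coherent modules supported in a closed subscheme of a locally Noetherian scheme. -/

set_option autoImplicit false
set_option backward.isDefEq.respectTransparency false
set_option backward.isDefEq.respectTransparency.types false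

universe u

open CategoryTheory CategoryTheory.Limits AlgebraicGeometry TopologicalSpace Opposite ZeroObject

namespace Groth.Agent.KZ.LF

open Groth.Agent

variable {X : Scheme.{u}}

instance hasExactColimits_nat : HasExactColimitsOfShape (Discrete ℕ) X.Modules := by
  haveI : IsGrothendieckAbelian.{u} X.Modules := SiteBase.isGrothendieckAbelian_sheafOfModules _
  exact HasExactColimitsOfShape.of_domain_equivalence X.Modules (Discrete.equivalence Equiv.ulift.{u} : Discrete (ULift.{u} ℕ) ≌ Discrete ℕ)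

theorem isQCoh_sigma (f : ℕ → X.Modules) (h : ∀ k, Coh.IsQCoh (f k)) : Coh.IsQCoh (∐ f) :=
  (QCoh.isQCoh_iff_iso (Sigma.whiskerEquiv (Equiv.ulift.{u} : ULift.{u} ℕ ≃ ℕ) fun j => Iso.refl (f j.down))).1
    (QCoh.isQCoh_colimit (Discrete.functor fun j : ULift.{u} ℕ => f j.down) fun j => h j.as.down)

/-- The module vanishes on an affine open. -/
def Vanish (U : X.affineOpens) (M : X.Modules) : Prop := Subsingleton Γ(M, U.1)

theorem vanish_sigma (U : X.affineOpens) (f : ℕ → X.Modules) (hq : ∀ k, Coh.IsQCoh (f k))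
    (h : ∀ k, Vanish U (f k)) : Vanish U (∐ f) := by
  let R := Scheme.Modules.restrictFunctor U.1.ι
  haveI : R.IsLeftAdjoint := inferInstance
  haveI : IsAffine U.1.toScheme := U.2
  have hz : ∀ k, IsZero (R.obj (f k)) := fun k => by
    refine QCoh.isZero_of_cover (QCoh.isQCoh_restrict _ (hq k)) (fun _ : Unit => ⊤) (fun _ => isAffineOpen_top _)
      (fun _ => ⟨(), trivial⟩) fun _ => ?_
    show Subsingleton Γ(f k, U.1.ι ''ᵁ ⊤)
    rw [Scheme.Opens.ι_image_top]
    exact h k
  have hz' : IsZero (R.obj (∐ f)) := by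
    refine IsZero.of_iso ?_ (PreservesCoproduct.iso R f)
    exact (IsZero.iff_id_eq_zero _).2 (Sigma.hom_ext _ _ fun k => (hz k).eq_of_src _ _)
  have hs : Subsingleton Γ(R.obj (∐ f), ⊤) := ⟨fun a b => by
    have h1 : ∀ s : Γ(R.obj (∐ f), ⊤), s = 0 := fun s => by
      have h2 : Scheme.Modules.Hom.app (𝟙 (R.obj (∐ f))) ⊤ s =
          Scheme.Modules.Hom.app (0 : R.obj (∐ f) ⟶ R.obj (∐ f)) ⊤ s := by rw [hz'.eq_of_src (𝟙 _) 0]
      exact h2
    rw [h1 a, h1 b]⟩
  have hs' : Subsingleton Γ(∐ f, U.1.ι ''ᵁ ⊤) := hs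
  rwa [Scheme.Opens.ι_image_top] at hs'

/-- A property of modules on an affine open passes to coproducts of eventually vanishing families. -/
theorem sigma_induction (U : X.affineOpens) (Φ : X.Modules → Prop)
    (h0 : ∀ M, Vanish U M → Φ M)
    (hstep : ∀ (S : ShortComplex X.Modules), S.Splitting → Coh.IsQCoh S.X₁ → Coh.IsQCoh S.X₃ → Φ S.X₁ → Φ S.X₃ → Φ S.X₂) :
    ∀ (n : ℕ) (f : ℕ → X.Modules), (∀ k, Coh.IsQCoh (f k)) → (∀ k, n ≤ k → Vanish U (f k)) → (∀ k, Φ (f k)) →
      Φ (∐ f) := by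
  intro n
  induction n with
  | zero => exact fun f hq hv _ => h0 _ (vanish_sigma U f hq fun k => hv k (Nat.zero_le k))
  | succ n ih =>
    intro f hq hv hΦ
    refine hstep (ShortComplex.mk (Sigma.ι f 0) (tailProj f) (by simp [tailProj]))
      { r := Sigma.desc fun | 0 => 𝟙 _ | (_ + 1) => 0
        s := Sigma.desc fun k => Sigma.ι f (k + 1)
        f_r := by simp
        s_g := Sigma.hom_ext _ _ fun k => by simp [tailProj]
        id := Sigma.hom_ext _ _ fun k => by cases k <;> simp [tailProj] }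
      (hq 0) (isQCoh_sigma _ fun k => hq _) (hΦ 0)
      (ih _ (fun k => hq _) (fun k hk => hv (k + 1) (by omega)) fun k => hΦ _)

theorem isCoh_sigma [IsLocallyNoetherian X] (f : ℕ → X.Modules) (h : ∀ k, Coh.IsCoh (f k))
    (hs : Small Vanish f) : Coh.IsCoh (∐ f) := by
  refine QCoh.isCoh_iff.2 ⟨isQCoh_sigma f fun k => (h k).1, fun U => ?_⟩
  obtain ⟨n, hn⟩ := hs U
  refine sigma_induction U (fun M => Module.Finite Γ(X, U.1) Γ(M, U.1))
    (fun M hM => haveI : Subsingleton Γ(M, U.1) := hM; inferInstance)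
    (fun S sp _ _ h1 h3 => ?_) n f (fun k => (h k).1) hn (fun k => QCoh.finite_sections (h k) U.2)
  haveI := h1; haveI := h3
  refine Module.Finite.of_surjective (LinearMap.coprod (appLin S.f U.1) (appLin sp.s U.1)) fun x => ?_
  refine ⟨(appLin sp.r U.1 x, appLin S.g U.1 x), ?_⟩
  exact congr(Scheme.Modules.Hom.app $(sp.id) U.1 x)

theorem killed_sigma {Z : Scheme.{u}} (i : Z ⟶ X) [IsClosedImmersion i] (f : ℕ → X.Modules) (hq : ∀ k, Coh.IsQCoh (f k))
    (hs : Small Vanish f) (h : ∀ k, ClosedDev.Killed i (f k)) : ClosedDev.Killed i (∐ f) := fun U => by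
  obtain ⟨n, hn⟩ := hs U
  refine sigma_induction U (fun M => ∀ a ∈ i.ker.ideal U, ∀ s : Γ(M, U.1), a • s = 0)
    (fun M hM a _ s => haveI : Subsingleton Γ(M, U.1) := hM; Subsingleton.elim _ _)
    (fun S sp _ _ h1 h3 a ha x => ?_) n f hq hn fun k => h k U
  have e : appLin S.f U.1 (appLin sp.r U.1 (a • x)) + appLin sp.s U.1 (appLin S.g U.1 (a • x)) = a • x :=
    congr(Scheme.Modules.Hom.app $(sp.id) U.1 (a • x))
  rw [← e, (appLin sp.r U.1).map_smul, (appLin S.g U.1).map_smul, h1 a ha, h3 a ha, map_zero, map_zero, add_zero]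

theorem support_sigma (Y : Set X) (f : ℕ → X.Modules) (hq : ∀ k, Coh.IsQCoh (f k))
    (hs : Small Vanish f) (h : ∀ k, CohB1.support (f k) ⊆ Y) : CohB1.support (∐ f) ⊆ Y := by
  intro x hx
  by_contra hxY
  obtain ⟨U, hU, hxU⟩ := QCoh.exists_affine_mem x
  obtain ⟨n, hn⟩ := hs ⟨U, hU⟩
  refine ((QCoh.notMem_support_iff (isQCoh_sigma f hq) hU hxU).2 ?_) hx
  refine sigma_induction ⟨U, hU⟩ (fun M => ∀ m : Γ(M, U), ∃ a : Γ(X, U), x ∈ X.basicOpen a ∧ a • m = 0)
    (fun M hM m => ⟨1, by rw [X.mem_basicOpen _ x hxU, map_one]; exact isUnit_one,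
      haveI : Subsingleton Γ(M, U) := hM; Subsingleton.elim _ _⟩)
    (fun S sp _ _ h1 h3 m => ?_) n f hq hn
    (fun k => (QCoh.notMem_support_iff (hq k) hU hxU).1 fun hk => hxY (h k hk))
  obtain ⟨a, hxa, ha⟩ := h1 (appLin sp.r U m)
  obtain ⟨b, hxb, hb⟩ := h3 (appLin S.g U m)
  refine ⟨a * b, by rw [Scheme.basicOpen_mul]; exact ⟨hxa, hxb⟩, ?_⟩
  have e : appLin S.f U (appLin sp.r U m) + appLin sp.s U (appLin S.g U m) = m :=
    congr(Scheme.Modules.Hom.app $(sp.id) U m)
  rw [← e, smul_add, ← (appLin S.f U).map_smul, ← (appLin sp.s U).map_smul, mul_smul, mul_smul,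
    smul_comm a b (appLin sp.r U m), ha, smul_zero, hb, smul_zero, map_zero, map_zero, add_zero]

section closed

variable {Z : Scheme.{u}} (i : Z ⟶ X) [IsClosedImmersion i]

/-- Coherent modules supported in the closed subscheme. -/
def Supp : ObjectProperty X.Modules :=
  fun G => Coh.IsCoh G ∧ ∀ x : X, Nontrivial (G.presheaf.stalk x) → x ∈ Set.range ⇑i

/-- Coherent modules killed by the ideal. -/
def SuppKilled : ObjectProperty X.Modules := fun G => Supp i G ∧ ClosedDev.Killed i G

theorem supp_iff {G : X.Modules} : Supp i G ↔ Coh.IsCoh G ∧ CohB1.support G ⊆ Set.range ⇑i :=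
  and_congr_right fun _ => ⟨fun h x hx => h x (not_subsingleton_iff_nontrivial.1 hx),
    fun h x hx => h (not_subsingleton_iff_nontrivial.2 hx)⟩

theorem devData [IsLocallyNoetherian X] : DevData (Supp i) (SuppKilled i) := by
  have hz : Supp i (0 : X.Modules) := (supp_iff i).2 ⟨isCoh_zero, by
    rw [QCoh.support_eq_empty_of_isZero (isZero_zero _) isCoh_zero.1]; exact Set.empty_subset _⟩
  exact
  { isoP := ⟨fun {M N} e h => (supp_iff i).2
      ⟨isClosedUnderIsomorphisms_isCoh.of_iso e ((supp_iff i).1 h).1,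
        QCoh.support_iso e h.1.1 ▸ ((supp_iff i).1 h).2⟩⟩
    zeroP := hz
    kerP := fun f hX hY => (supp_iff i).2 ⟨QCoh.isCoh_kernel hX.1 hY.1 f,
      (QCoh.mem_support_of_mono (QCoh.isCoh_kernel hX.1 hY.1 f).1 hX.1.1 (kernel.ι f)).trans ((supp_iff i).1 hX).2⟩
    cokerP := fun f hX hY => (supp_iff i).2 ⟨QCoh.isCoh_cokernel hX.1.1 hY.1 f,
      (QCoh.support_of_epi hY.1.1 (QCoh.isCoh_cokernel hX.1.1 hY.1 f).1 (cokernel.π f)).trans
        ((supp_iff i).1 hY).2⟩
    le := fun _ h => h.1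
    zeroQ := ⟨hz, ClosedDev.Killed.of_isZero i (isZero_zero _)⟩
    closed := fun S hS h1 h3 h2 => by
      have := hS.mono_f
      have := hS.epi_g
      exact ⟨⟨h1, h2.2.of_mono i S.f⟩, ⟨h3, h2.2.of_epi i S.g h2.1.1.1 h3.1.1⟩⟩ }

theorem exists_pow_smul_eq_zero [IsLocallyNoetherian X] {G : X.Modules} (hG : Supp i G) (U : X.affineOpens) :
    ∃ n : ℕ, (i.ker.ideal U) ^ n • (⊤ : Submodule Γ(X, U.1) Γ(G, U.1)) = ⊥ := by
  haveI := QCoh.noetherian_sections U
  haveI := QCoh.finite_sections hG.1 U.2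
  set I := i.ker.ideal U
  set a := Module.annihilator Γ(X, U.1) Γ(G, U.1)
  have hrad : I ≤ a.radical := by
    rw [a.radical_eq_sInf]
    refine le_sInf fun p hp r hr => ?_
    let q : PrimeSpectrum Γ(X, U.1) := ⟨p, hp.2⟩
    have hq : q ∈ Module.support Γ(X, U.1) Γ(G, U.1) := by
      rw [Module.support_eq_zeroLocus]
      exact hp.1
    let x : X := U.2.fromSpec q
    have hx : x ∈ U.1 := by
      have h := Set.mem_range_self (f := U.2.fromSpec) q
      rw [U.2.range_fromSpec] at h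
      exact h
    have hpx : U.2.primeIdealOf ⟨x, hx⟩ = q :=
      U.2.fromSpec.isOpenEmbedding.injective (U.2.fromSpec_primeIdealOf ⟨x, hx⟩)
    have hxs : x ∈ CohB1.support G := (QCoh.mem_moduleSupport_iff hG.1.1 U.2 hx).1 (hpx.symm ▸ hq)
    obtain ⟨z, hz⟩ := ((supp_iff i).1 hG).2 hxs
    by_contra hrp
    have hxr : x ∈ X.basicOpen r := by
      rw [QCoh.mem_basicOpen_iff_notMem U.2 hx, hpx]; exact hrp
    have hzr : z ∈ i ⁻¹ᵁ X.basicOpen r := by
      show i z ∈ X.basicOpen r
      rw [hz]; exact hxr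
    rw [Scheme.preimage_basicOpen, show (i.app U.1) r = 0 from
      RingHom.mem_ker.1 (Scheme.Hom.ker_apply i U ▸ hr), Scheme.basicOpen_zero] at hzr
    exact hzr
  obtain ⟨n, hn⟩ := Ideal.exists_pow_le_of_le_radical_of_fg hrad ((isNoetherianRing_iff_ideal_fg _).1 ‹_› I)
  refine ⟨n, le_bot_iff.1 (Submodule.smul_le.2 fun r hr m _ => ?_)⟩
  exact (Submodule.mem_bot _).2 (Module.mem_annihilator.1 (hn hr) m)

/-- The composite inclusion of a step of a chain. -/
noncomputable def incl (F : ℕ → X.Modules) (j : ∀ k, F (k + 1) ⟶ F k) : ∀ k, F k ⟶ F 0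
  | 0 => 𝟙 _
  | k + 1 => j k ≫ incl F j k

theorem mono_incl (F : ℕ → X.Modules) (j : ∀ k, F (k + 1) ⟶ F k) (hj : ∀ k, Mono (j k)) : ∀ k, Mono (incl F j k)
  | 0 => inferInstanceAs (Mono (𝟙 _))
  | k + 1 => by
    haveI := mono_incl F j hj k
    haveI := hj k
    exact mono_comp (j k) (incl F j k)

theorem unit_reflect [IsLocallyNoetherian X] {G : X.Modules} (hG : Supp i G) :
    SuppKilled i ((Scheme.Modules.pushforward i).obj ((Scheme.Modules.pullback i).obj G)) ∧
      Epi ((Scheme.Modules.pullbackPushforwardAdjunction i).unit.app G) := by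
  have hc := QCoh.isCoh_pushforward_finite i (ClosedDev.isCoh_pull i hG.1)
  set η := (Scheme.Modules.pullbackPushforwardAdjunction i).unit.app G
  have he : Epi η := by
    refine Preadditive.epi_of_cancel_zero _ fun {W} g hg => QCoh.hom_ext_app fun U y => ?_
    refine TopCat.Sheaf.eq_of_locally_eq' ⟨W.presheaf, W.isSheaf⟩
      (fun V : {V : X.affineOpens // V.1 ≤ U} => V.1.1) U (fun V => homOfLE V.2) (fun z hz => ?_) _ _ fun V => ?_
    · obtain ⟨_, ⟨V, hV, rfl⟩, hzV, hVU⟩ := X.isBasis_affineOpens.exists_subset_of_mem_open hz U.isOpen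
      exact Opens.mem_iSup.2 ⟨⟨⟨V, hV⟩, hVU⟩, hzV⟩
    · obtain ⟨m, hm⟩ := (QCoh.unit_app_closed i hG.1.1 V.1.2).1
        (((Scheme.Modules.pushforward i).obj ((Scheme.Modules.pullback i).obj G)).presheaf.map (homOfLE V.2).op y)
      refine ((QCoh.map_app_comm g (homOfLE V.2) y).symm.trans ?_).trans (map_zero _).symm
      exact (congrArg (g.app V.1.1) hm).symm.trans congr(($hg).app V.1.1 m)
  refine ⟨⟨(supp_iff i).2 ⟨hc, ?_⟩, ClosedDev.killed_push i _⟩, he⟩
  exact (QCoh.support_of_epi hG.1.1 hc.1 η).trans ((supp_iff i).1 hG).2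

theorem lfData [IsLocallyNoetherian X] : LFData (Supp i) (SuppKilled i) (Vanish (X := X)) where
  dev := devData i
  vmono U {M N} f hf _ _ hN :=
    haveI := hf
    haveI : Subsingleton Γ(N, U.1) := hN
    (QCoh.app_injective f U.1).subsingleton
  vepi U {M N} f hf hM hN hv :=
    haveI := hf
    haveI : Subsingleton Γ(M, U.1) := hv
    (QCoh.app_surjective_of_epi hM.1.1 hN.1.1 f U.2).subsingleton
  vsigma U f hf hv := vanish_sigma U f (fun k => (hf k).1.1) hv
  sumP f hf hs := (supp_iff i).2 ⟨isCoh_sigma f (fun k => (hf k).1) hs,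
    support_sigma _ f (fun k => (hf k).1.1) hs fun k => ((supp_iff i).1 (hf k)).2⟩
  sumQ f hf hs := ⟨(supp_iff i).2 ⟨isCoh_sigma f (fun k => (hf k).1.1) hs,
    support_sigma _ f (fun k => (hf k).1.1.1) hs fun k => ((supp_iff i).1 (hf k).1).2⟩,
      killed_sigma i f (fun k => (hf k).1.1.1) hs fun k => (hf k).2⟩
  refl G hG := by
    obtain ⟨hR, he⟩ := unit_reflect i hG
    refine ⟨_, (Scheme.Modules.pullbackPushforwardAdjunction i).unit.app G, hR, he, fun R' g hR' => ?_⟩
    haveI := (QCoh.isIso_unit_closed_iff i hR'.1.1.1).2 hR'.2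
    refine ⟨(Scheme.Modules.pushforward i).map ((Scheme.Modules.pullback i).map g) ≫
      inv ((Scheme.Modules.pullbackPushforwardAdjunction i).unit.app R'), ?_⟩
    rw [← Category.assoc, IsIso.comp_inv_eq]
    exact ((Scheme.Modules.pullbackPushforwardAdjunction i).unit.naturality g).symm
  nilp F j hj hF hmin U := by
    obtain ⟨n, hn⟩ := exists_pow_smul_eq_zero i (hF 0) U
    set I := i.ker.ideal U
    have hle : ∀ k (x : Γ(F k, U.1)), appLin (incl F j k) U.1 x ∈ I ^ k • (⊤ : Submodule Γ(X, U.1) Γ(F 0, U.1)) := by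
      intro k
      induction k with
      | zero => intro x; rw [pow_zero, Ideal.one_eq_top, Submodule.top_smul]; trivial
      | succ k ih =>
        intro x
        have hx : (appLin (j k) U.1 x) ∈ I • (⊤ : Submodule Γ(X, U.1) Γ(F k, U.1)) := by
          refine ((QCoh.unit_app_closed i (hF k).1.1 U.2).2 _).1 ?_
          have := hmin k _ ((Scheme.Modules.pullbackPushforwardAdjunction i).unit.app (F k))
            (unit_reflect i (hF k)).1
          exact congr(($this).app U.1 x)
        have h2 := Submodule.mem_map_of_mem (f := appLin (incl F j k) U.1) hx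
        rw [Submodule.map_smul''] at h2
        rw [pow_succ', Submodule.mul_smul]
        exact Submodule.smul_mono (le_refl I) (fun y hy => by obtain ⟨z, -, rfl⟩ := hy; exact ih z) h2
    refine ⟨n, fun k hk => subsingleton_of_forall_eq 0 fun x => ?_⟩
    haveI := mono_incl F j hj k
    have h3 := Submodule.smul_mono_left (Ideal.pow_le_pow_right hk) (hle k x)
    rw [hn, Submodule.mem_bot] at h3
    exact QCoh.app_injective (incl F j k) U.1 (h3.trans (map_zero _).symm)

/-- Modules killed by the ideal are the modules on the closed subscheme. -/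
theorem exists_equiv_killed [IsLocallyNoetherian X] :
    ∃ ψ : KZero.K0sub (fun F : Z.Modules => Coh.IsCoh F) ≃+ KZero.K0sub (SuppKilled i),
      ∀ F : Z.Modules, Coh.IsCoh F → ψ (KZero.clSub (fun F : Z.Modules => Coh.IsCoh F) F) =
        KZero.clSub (SuppKilled i) ((Coh.push i).obj F) := by
  haveI : IsLocallyNoetherian Z := LocallyOfFiniteType.isLocallyNoetherian i
  haveI : PreservesFiniteLimits (Scheme.Modules.pushforward i) :=
    haveI : PreservesLimitsOfSize.{0, 0} (Scheme.Modules.pushforward i) :=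
      (Scheme.Modules.pullbackPushforwardAdjunction i).rightAdjoint_preservesLimits
    PreservesLimitsOfSize.preservesFiniteLimits _
  haveI : (Scheme.Modules.pushforward i).Additive := Functor.additive_of_preserves_binary_products _
  haveI : (Scheme.Modules.pushforward i).Faithful := ⟨fun {A B} {f g} h => ClosedDev.push_map_injective i f g h⟩
  have hpush : ∀ F : Z.Modules, Coh.IsCoh F → SuppKilled i ((Scheme.Modules.pushforward i).obj F) := fun F hF =>
    ⟨(supp_iff i).2 ⟨QCoh.isCoh_pushforward_finite i hF, QCoh.support_push_subset i hF.1⟩,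
      ClosedDev.killed_push i F⟩
  exact exists_equiv_sub (Scheme.Modules.pushforward i) (fun M : Z.Modules => Coh.IsCoh M) (SuppKilled i)
    hpush (fun M N hM _ => ClosedDev.push_map_bijective i (hpush M hM).1.1.1)
    (fun S _ _ _ hS => .mk' ((ShortComplex.exact_map_iff_of_faithful S _).1 hS.exact)
      ((Scheme.Modules.pushforward i).mono_of_mono_map hS.mono_f)
      ((Scheme.Modules.pushforward i).epi_of_epi_map hS.epi_g))
    (fun M hM => by
      have := (QCoh.isIso_unit_closed_iff i hM.1.1.1).2 hM.2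
      exact ⟨_, ClosedDev.isCoh_pull i hM.1.1,
        ⟨(asIso ((Scheme.Modules.pullbackPushforwardAdjunction i).unit.app M)).symm⟩⟩)
    ⟨0, isZero_zero _, isCoh_zero⟩

/-- Dévissage: coherent modules on `Z` and coherent modules on `X` supported on `Z` have the same `K₀`. -/
theorem exists_equiv_supp [IsLocallyNoetherian X] :
    ∃ φ : KZero.K0sub (fun F : Z.Modules => Coh.IsCoh F) ≃+ KZero.K0sub (Supp i),
      ∀ F : Z.Modules, Coh.IsCoh F → φ (KZero.clSub (fun F : Z.Modules => Coh.IsCoh F) F) =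
        KZero.clSub (Supp i) ((Coh.push i).obj F) := by
  obtain ⟨ψ, hψ⟩ := exists_equiv_killed i
  obtain ⟨χ, hχ⟩ := devissage_equiv_lf (lfData i)
  refine ⟨ψ.trans χ, fun F hF => ?_⟩
  haveI := LocallyOfFiniteType.isLocallyNoetherian i
  rw [AddEquiv.trans_apply, hψ F hF, hχ _ ?_]
  exact ⟨(supp_iff i).2 ⟨QCoh.isCoh_pushforward_finite i hF, QCoh.support_push_subset i hF.1⟩,
      ClosedDev.killed_push i F⟩

end closed

end Groth.Agent.KZ.LF
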