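import Groth.Agent.KZ.Devissage
import Mathlib.CategoryTheory.Abelian.GrothendieckAxioms.Basic
import Mathlib.CategoryTheory.Limits.Shapes.Pullback.IsPullback.Basic

/-! Dévissage along locally finite, possibly infinite, filtrations. -/

set_option autoImplicit false

universe v u w

open CategoryTheory CategoryTheory.Limits ZeroObject

namespace Groth.Agent.KZ.LF

variable {A : Type u} [Category.{v} A] [Abelian A] [HasColimitsOfShape (Discrete ℕ) A]
  [HasExactColimitsOfShape (Discrete ℕ) A]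

theorem mono_sigmaMap {F G : ℕ → A} (f : ∀ k, F k ⟶ G k) [∀ k, Mono (f k)] : Mono (Limits.Sigma.map f) := by
  haveI : Mono (Discrete.natTrans (fun k : Discrete ℕ => f k.as) : Discrete.functor F ⟶ Discrete.functor G) := by
    haveI : ∀ k, Mono ((Discrete.natTrans (fun k : Discrete ℕ => f k.as) :
        Discrete.functor F ⟶ Discrete.functor G).app k) := fun k => inferInstanceAs (Mono (f k.as))
    exact NatTrans.mono_of_mono_app _
  exact inferInstanceAs (Mono (colim.map (Discrete.natTrans (fun k : Discrete ℕ => f k.as) :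
    Discrete.functor F ⟶ Discrete.functor G)))

/-- A coproduct of short exact sequences. -/
theorem sigma_shortExact {F G R : ℕ → A} (f : ∀ k, F k ⟶ G k) (g : ∀ k, G k ⟶ R k)
    (w : ∀ k, f k ≫ g k = 0) (h : ∀ k, (ShortComplex.mk (f k) (g k) (w k)).ShortExact) :
    (ShortComplex.mk (Limits.Sigma.map f) (Limits.Sigma.map g)
      (Sigma.hom_ext _ _ fun k => by simp [reassoc_of% w k])).ShortExact := by
  haveI : ∀ k, Mono (f k) := fun k => (h k).mono_f
  haveI : ∀ k, Epi (g k) := fun k => (h k).epi_g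
  haveI : Epi (Limits.Sigma.map g) := ⟨fun {Z} a b hab => Sigma.hom_ext _ _ fun k => by
    have := Sigma.ι G k ≫= hab
    simp only [Sigma.ι_map_assoc] at this
    exact (cancel_epi (g k)).1 this⟩
  refine .mk' (ShortComplex.exact_of_g_is_cokernel _ ?_) (mono_sigmaMap f) inferInstance
  refine CokernelCofork.IsColimit.ofπ _ _
    (fun {W} a ha => Sigma.desc fun k =>
      haveI : Epi (ShortComplex.mk (f k) (g k) (w k)).g := (h k).epi_g
      (h k).exact.desc (Sigma.ι G k ≫ a) (by
        have := Sigma.ι F k ≫= ha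
        simpa using this))
    (fun {W} a ha => Sigma.hom_ext _ _ fun k => by
      haveI : Epi (ShortComplex.mk (f k) (g k) (w k)).g := (h k).epi_g
      simp only [Sigma.ι_map_assoc, Sigma.ι_desc]
      exact (h k).exact.g_desc _ _)
    (fun {W} a ha b hb => ?_)
  refine (cancel_epi (Limits.Sigma.map g)).1 (hb.trans ?_)
  refine Sigma.hom_ext _ _ fun k => ?_
  haveI : Epi (ShortComplex.mk (f k) (g k) (w k)).g := (h k).epi_g
  simp only [Sigma.ι_map_assoc, Sigma.ι_desc]
  exact ((h k).exact.g_desc _ _).symm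

/-- Dropping the first term of a coproduct. -/
noncomputable def tailProj (F : ℕ → A) : (∐ F) ⟶ ∐ fun k => F (k + 1) :=
  Sigma.desc fun | 0 => 0 | (k + 1) => Sigma.ι (fun k => F (k + 1)) k

theorem tail_shortExact (F : ℕ → A) :
    (ShortComplex.mk (Sigma.ι F 0) (tailProj F) (by simp [tailProj])).ShortExact := by
  refine ShortComplex.Splitting.shortExact
    { r := Sigma.desc fun | 0 => 𝟙 _ | (_ + 1) => 0
      s := Sigma.desc fun k => Sigma.ι F (k + 1)
      f_r := by simp
      s_g := Sigma.hom_ext _ _ fun k => by simp [tailProj]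
      id := Sigma.hom_ext _ _ fun k => by cases k <;> simp [tailProj] }

/-- A locally finite filtration does not change the class. -/
theorem clSub_chain (C : ObjectProperty A) {F R : ℕ → A} (j : ∀ k, F (k + 1) ⟶ F k)
    (g : ∀ k, F k ⟶ R k) (w : ∀ k, j k ≫ g k = 0) (h : ∀ k, (ShortComplex.mk (j k) (g k) (w k)).ShortExact)
    (h0 : C (F 0)) (hF : C (∐ F)) (hF' : C (∐ fun k => F (k + 1))) (hR : C (∐ R)) :
    KZero.clSub C (F 0) = KZero.clSub C (∐ R) := by
  have h1 := clSub_ses C (sigma_shortExact j g w h) hF' hF hR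
  have h2 := clSub_ses C (tail_shortExact F) h0 hF hF'
  dsimp only at h1 h2
  rw [h2, add_comm] at h1
  exact add_left_cancel h1

variable {ι : Type w}

/-- A family which is eventually zero on each piece. -/
def Small (V : ι → A → Prop) (f : ℕ → A) : Prop := ∀ i, ∃ n, ∀ k, n ≤ k → V i (f k)

theorem Small.tail {V : ι → A → Prop} {f : ℕ → A} (h : Small V f) : Small V fun k => f (k + 1) := fun i => by
  obtain ⟨n, hn⟩ := h i
  exact ⟨n, fun k hk => hn (k + 1) (by omega)⟩

/-- The axioms of locally finite dévissage from `P` to `Q`. -/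
structure LFData (P Q : ObjectProperty A) (V : ι → A → Prop) : Prop where
  dev : DevData P Q
  vmono : ∀ (i : ι) {X Y : A} (f : X ⟶ Y), Mono f → P X → P Y → V i Y → V i X
  vepi : ∀ (i : ι) {X Y : A} (f : X ⟶ Y), Epi f → P X → P Y → V i X → V i Y
  vsigma : ∀ (i : ι) (f : ℕ → A), (∀ k, P (f k)) → (∀ k, V i (f k)) → V i (∐ f)
  sumP : ∀ f : ℕ → A, (∀ k, P (f k)) → Small V f → P (∐ f)
  sumQ : ∀ f : ℕ → A, (∀ k, Q (f k)) → Small V f → Q (∐ f)
  refl : ∀ G : A, P G → ∃ (R : A) (η : G ⟶ R), Q R ∧ Epi η ∧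
    ∀ (R' : A) (g : G ⟶ R'), Q R' → ∃ g' : R ⟶ R', η ≫ g' = g
  nilp : ∀ (F : ℕ → A) (j : ∀ k, F (k + 1) ⟶ F k), (∀ k, Mono (j k)) → (∀ k, P (F k)) →
    (∀ (k : ℕ) (R : A) (g : F k ⟶ R), Q R → j k ≫ g = 0) → Small V F

variable {P Q : ObjectProperty A} {V : ι → A → Prop}

section closure

variable (D : LFData P Q V)

include D

theorem isoP {X Y : A} (e : X ≅ Y) (h : P X) : P Y :=
  haveI := D.dev.isoP
  P.prop_of_iso e h

theorem isoQ' {X Y : A} (e : X ≅ Y) (h : Q X) : Q Y := isoQ D.dev e h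

theorem subQ {X Y : A} (f : X ⟶ Y) [Mono f] (hX : P X) (hY : Q Y) : Q X :=
  (D.dev.closed _ (shortExact_of_mono f) hX (D.dev.cokerP f hX (D.dev.le _ hY)) hY).1

theorem quotQ {X Y : A} (f : X ⟶ Y) [Epi f] (hX : Q X) (hY : P Y) : Q Y :=
  (D.dev.closed _ (shortExact_of_epi f) (D.dev.kerP f (D.dev.le _ hX) hY) hY hX).2

theorem clQ_iso {X Y : A} (e : X ≅ Y) (hX : Q X) : KZero.clSub Q X = KZero.clSub Q Y :=
  clSub_iso Q e hX (isoQ' D e hX) (isZero_zero A) D.dev.zeroQ

theorem clP_iso {X Y : A} (e : X ≅ Y) (hX : P X) : KZero.clSub P X = KZero.clSub P Y :=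
  clSub_iso P e hX (isoP D e hX) (isZero_zero A) D.dev.zeroP

end closure

/-- A locally finite filtration with factors in `Q`. -/
structure Fl (P Q : ObjectProperty A) (V : ι → A → Prop) (M : A) where
  obj : ℕ → A
  j : ∀ k, obj (k + 1) ⟶ obj k
  mono : ∀ k, Mono (j k)
  e : obj 0 ≅ M
  memP : ∀ k, P (obj k)
  cokQ : ∀ k, Q (cokernel (j k))
  small : Small V obj

namespace Fl

variable {M : A} (F : Fl P Q V M)

/-- The associated graded object. -/
noncomputable def gr : A := ∐ fun k => cokernel (F.j k)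

/-- The inclusion of a step. -/
noncomputable def inc : ∀ k, F.obj k ⟶ M
  | 0 => F.e.hom
  | k + 1 => F.j k ≫ inc k

theorem mono_inc : ∀ k, Mono (F.inc k)
  | 0 => inferInstanceAs (Mono F.e.hom)
  | k + 1 => by
    haveI := mono_inc k
    haveI := F.mono k
    exact mono_comp (F.j k) (F.inc k)

variable (D : LFData P Q V)

include D

theorem small_coker : Small V fun k => cokernel (F.j k) := fun i => by
  obtain ⟨n, hn⟩ := F.small i
  exact ⟨n, fun k hk => D.vepi i (cokernel.π _) inferInstance (F.memP k) (D.dev.le _ (F.cokQ k)) (hn k hk)⟩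

theorem gr_mem : Q F.gr := D.sumQ _ F.cokQ (F.small_coker D)

theorem clP_gr : KZero.clSub P M = KZero.clSub P F.gr := by
  rw [← clP_iso D F.e (F.memP 0)]
  haveI := F.mono
  exact clSub_chain P F.j (fun k => cokernel.π (F.j k)) (fun k => cokernel.condition _)
    (fun k => shortExact_of_mono (F.j k)) (F.memP 0) (D.sumP _ F.memP F.small)
    (D.sumP _ (fun k => F.memP _) F.small.tail) (D.dev.le _ (F.gr_mem D))

theorem clQ_gr (hM : Q M) : KZero.clSub Q F.gr = KZero.clSub Q M := by
  have hq : ∀ k, Q (F.obj k) := fun k => haveI := F.mono_inc k; subQ D (F.inc k) (F.memP k) hM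
  rw [← clQ_iso D F.e (hq 0)]
  haveI := F.mono
  exact (clSub_chain Q F.j (fun k => cokernel.π (F.j k)) (fun k => cokernel.condition _)
    (fun k => shortExact_of_mono (F.j k)) (hq 0) (D.sumQ _ hq F.small)
    (D.sumQ _ (fun k => hq _) F.small.tail) (F.gr_mem D)).symm

/-- One half of the refinement of two filtrations. -/
theorem refine_side (F' : Fl P Q V M) (B : ℕ → ℕ → A) (hBP : ∀ k l, P (B k l))
    (p : ∀ k l, B k l ⟶ F.obj k) (q : ∀ k l, B k l ⟶ F'.obj l)
    (hB : ∀ k l, IsPullback (p k l) (q k l) (F.inc k) (F'.inc l))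
    (u₁ : ∀ k l, B (k + 1) l ⟶ B k l) (u₂ : ∀ k l, B k (l + 1) ⟶ B k l)
    (hup : ∀ k l, u₁ k l ≫ p k l = p (k + 1) l ≫ F.j k) (huq : ∀ k l, u₁ k l ≫ q k l = q (k + 1) l)
    (hvp : ∀ k l, u₂ k l ≫ p k l = p k (l + 1)) :
    KZero.clSub Q F.gr =
      KZero.clSub Q (∐ fun l => ∐ fun k => cokernel (biprod.desc (u₁ k l) (u₂ k l))) := by
  haveI : ∀ k, Mono (F.inc k) := F.mono_inc
  haveI : ∀ k, Mono (F'.inc k) := F'.mono_inc
  haveI := F.mono
  haveI : ∀ k l, Mono (q k l) := fun k l =>
    ⟨fun a b h => (hB k l).hom_ext ((cancel_mono (F.inc k)).1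
      (by rw [Category.assoc, Category.assoc, (hB k l).w, reassoc_of% h])) h⟩
  let c : ∀ k l, B k l ⟶ cokernel (F.j k) := fun k l => p k l ≫ cokernel.π (F.j k)
  let C : ℕ → ℕ → A := fun k l => Abelian.image (c k l)
  let d : ∀ k l, B k l ⟶ C k l := fun k l => Abelian.factorThruImage (c k l)
  let m : ∀ k l, C k l ⟶ cokernel (F.j k) := fun k l => Abelian.image.ι (c k l)
  have hdm : ∀ k l, d k l ≫ m k l = c k l := fun k l => Abelian.image.fac (c k l)
  have hdepi : ∀ k l, Epi (d k l) := fun k l => inferInstanceAs (Epi (Abelian.factorThruImage _))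
  have hmmono : ∀ k l, Mono (m k l) := fun k l => inferInstanceAs (Mono (Abelian.image.ι _))
  have hRP : ∀ k, P (cokernel (F.j k)) := fun k => D.dev.le _ (F.cokQ k)
  have hCP : ∀ k l, P (C k l) := fun k l => D.dev.kerP _ (hRP k) (D.dev.cokerP _ (hBP k l) (hRP k))
  have hCQ : ∀ k l, Q (C k l) := fun k l => haveI := hmmono k l; subQ D (m k l) (hCP k l) (F.cokQ k)
  have hcv : ∀ k l, u₂ k l ≫ c k l = c k (l + 1) := fun k l => (Category.assoc _ _ _).symm.trans
    (congrArg (· ≫ cokernel.π (F.j k)) (hvp k l))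
  have hex : ∀ k l, ∃ jC : C k (l + 1) ⟶ C k l, jC ≫ m k l = m k (l + 1) := fun k l => by
    refine ⟨kernel.lift (cokernel.π (c k l)) (m k (l + 1)) ?_, kernel.lift_ι _ _ _⟩
    haveI := hdepi k (l + 1)
    rw [← cancel_epi (d k (l + 1)), ← Category.assoc, hdm, ← hcv, Category.assoc,
      cokernel.condition, comp_zero, comp_zero]
  choose jC hjC using hex
  have hjCmono : ∀ k l, Mono (jC k l) := fun k l => by
    haveI := hmmono k (l + 1)
    haveI : Mono (jC k l ≫ m k l) := by rw [hjC]; infer_instance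
    exact mono_of_mono (jC k l) (m k l)
  have hdj : ∀ k l, d k (l + 1) ≫ jC k l = u₂ k l ≫ d k l := fun k l => by
    haveI := hmmono k l
    rw [← cancel_mono (m k l), Category.assoc, hjC, hdm, Category.assoc, hdm, hcv]
  have hE : ∀ k l, Nonempty (cokernel (jC k l) ≅ cokernel (biprod.desc (u₁ k l) (u₂ k l))) := fun k l => by
    haveI := hdepi k l
    haveI := hmmono k l
    have w : biprod.desc (u₁ k l) (u₂ k l) ≫ d k l ≫ cokernel.π (jC k l) = 0 := by
      refine biprod.hom_ext' _ _ ?_ ?_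
      · rw [biprod.inl_desc_assoc, comp_zero]
        have : u₁ k l ≫ d k l = 0 := by
          rw [← cancel_mono (m k l), Category.assoc, hdm, zero_comp]
          simp only [c]
          rw [reassoc_of% hup k l, cokernel.condition, comp_zero]
        rw [reassoc_of% this, zero_comp]
      · rw [biprod.inr_desc_assoc, comp_zero, ← Category.assoc, ← hdj, Category.assoc,
          cokernel.condition, comp_zero]
    have hexact : (ShortComplex.mk (biprod.desc (u₁ k l) (u₂ k l)) (d k l ≫ cokernel.π (jC k l)) w).Exact := by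
      rw [ShortComplex.exact_iff_exact_up_to_refinements]
      intro W x hx
      dsimp at x hx
      obtain ⟨W₁, r₁, hr₁, y, hy⟩ := (ShortComplex.exact_cokernel (jC k l)).exact_up_to_refinements (x ≫ d k l)
        ((Category.assoc _ _ _).trans hx)
      dsimp at y hy
      haveI := hdepi k (l + 1)
      obtain ⟨W₂, r₂, hr₂, b, hb⟩ := surjective_up_to_refinements_of_epi (d k (l + 1)) y
      let z := r₂ ≫ r₁ ≫ x - b ≫ u₂ k l
      have hz : (z ≫ p k l) ≫ cokernel.π (F.j k) = 0 := by
        rw [Category.assoc, show p k l ≫ cokernel.π (F.j k) = c k l from rfl, ← hdm, ← Category.assoc,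
          show z ≫ d k l = 0 by
            simp only [z, Preadditive.sub_comp, Category.assoc, hy, ← hdj, reassoc_of% hb, sub_self],
          zero_comp]
      let a : W₂ ⟶ F.obj (k + 1) := (shortExact_of_mono (F.j k)).exact.lift (z ≫ p k l) hz
      have ha : a ≫ F.j k = z ≫ p k l := (shortExact_of_mono (F.j k)).exact.lift_f _ _
      let t : W₂ ⟶ B (k + 1) l := (hB (k + 1) l).lift a (z ≫ q k l) (by
        show a ≫ F.j k ≫ F.inc k = _
        rw [← Category.assoc, ha, Category.assoc, (hB k l).w, Category.assoc])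
      have ht : t ≫ u₁ k l = z := by
        refine (hB k l).hom_ext ?_ ?_
        · rw [Category.assoc, hup, ← Category.assoc, IsPullback.lift_fst, ha]
        · rw [Category.assoc, huq, IsPullback.lift_snd]
      refine ⟨W₂, r₂ ≫ r₁, inferInstance, biprod.lift t b, ?_⟩
      dsimp
      rw [biprod.lift_desc, ht, Category.assoc, sub_add_cancel]
    haveI : Epi (d k l ≫ cokernel.π (jC k l)) := epi_comp _ _
    exact ⟨hexact.gIsCokernel.coconePointUniqueUpToIso (colimit.isColimit _)⟩
  let eE := fun k l => (hE k l).some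
  have hm0 : ∀ k, IsIso (m k 0) := fun k => by
    haveI : IsIso (F'.inc 0) := inferInstanceAs (IsIso F'.e.hom)
    haveI : IsIso (p k 0) := (hB k 0).isIso_fst_of_isIso
    haveI := hmmono k 0
    haveI : Epi (d k 0 ≫ m k 0) := by rw [hdm]; exact epi_comp _ _
    haveI : Epi (m k 0) := epi_of_epi (d k 0) (m k 0)
    exact isIso_of_mono_of_epi _
  have hs1 : ∀ l, Small V fun k => C k l := fun l i => by
    obtain ⟨n, hn⟩ := F.small_coker D i
    exact ⟨n, fun k hk => D.vmono i (m k l) (hmmono k l) (hCP k l) (hRP k) (hn k hk)⟩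
  have hs2 : Small V fun l => ∐ fun k => C k l := fun i => by
    obtain ⟨n, hn⟩ := F'.small i
    refine ⟨n, fun l hl => D.vsigma i _ (fun k => hCP k l) fun k => ?_⟩
    exact D.vepi i (d k l) (hdepi k l) (hBP k l) (hCP k l)
      (D.vmono i (q k l) inferInstance (hBP k l) (F'.memP l) (hn l hl))
  have hN : ∀ l, Q (∐ fun k => C k l) := fun l => D.sumQ _ (fun k => hCQ k l) (hs1 l)
  have hDQ : ∀ k l, Q (cokernel (jC k l)) := fun k l =>
    quotQ D (cokernel.π _) (hCQ k l) (D.dev.cokerP _ (hCP k (l + 1)) (hCP k l))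
  have hDs : ∀ l, Small V fun k => cokernel (jC k l) := fun l i => by
    obtain ⟨n, hn⟩ := hs1 l i
    exact ⟨n, fun k hk => D.vepi i (cokernel.π _) inferInstance (hCP k l) (D.dev.le _ (hDQ k l)) (hn k hk)⟩
  have hRQ : ∀ l, Q (∐ fun k => cokernel (jC k l)) := fun l => D.sumQ _ (fun k => hDQ k l) (hDs l)
  have hRs : Small V fun l => ∐ fun k => cokernel (jC k l) := fun i => by
    obtain ⟨n, hn⟩ := F'.small i
    refine ⟨n, fun l hl => D.vsigma i _ (fun k => D.dev.le _ (hDQ k l)) fun k => ?_⟩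
    exact D.vepi i (cokernel.π (jC k l)) inferInstance (hCP k l) (D.dev.le _ (hDQ k l))
      (D.vepi i (d k l) (hdepi k l) (hBP k l) (hCP k l)
        (D.vmono i (q k l) inferInstance (hBP k l) (F'.memP l) (hn l hl)))
  have hchain := clSub_chain Q (F := fun l => ∐ fun k => C k l) (R := fun l => ∐ fun k => cokernel (jC k l))
    (fun l => Limits.Sigma.map fun k => jC k l) (fun l => Limits.Sigma.map fun k => cokernel.π (jC k l))
    (fun l => Sigma.hom_ext _ _ fun k => by simp)
    (fun l => sigma_shortExact _ _ (fun k => cokernel.condition _) fun k => by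
      haveI := hjCmono k l
      exact shortExact_of_mono (jC k l))
    (hN 0) (D.sumQ _ hN hs2) (D.sumQ _ (fun l => hN (l + 1)) hs2.tail) (D.sumQ _ hRQ hRs)
  let e0 : (∐ fun k => C k 0) ≅ F.gr := Limits.Sigma.mapIso fun k => @asIso _ _ _ _ (m k 0) (hm0 k)
  rw [← clQ_iso D e0 (hN 0), hchain]
  exact clQ_iso D (Limits.Sigma.mapIso fun l => Limits.Sigma.mapIso fun k => eE k l) (D.sumQ _ hRQ hRs)

omit D

/-- Interchange of the two indices of a double coproduct. -/
noncomputable def sigmaSwap (E : ℕ → ℕ → A) : (∐ fun l => ∐ fun k => E k l) ≅ ∐ fun k => ∐ fun l => E k l where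
  hom := Sigma.desc fun l => Sigma.desc fun k => Sigma.ι (E k) l ≫ Sigma.ι (fun k => ∐ fun l => E k l) k
  inv := Sigma.desc fun k => Sigma.desc fun l =>
    Sigma.ι (fun k => E k l) k ≫ Sigma.ι (fun l => ∐ fun k => E k l) l
  hom_inv_id := Sigma.hom_ext _ _ fun l => Sigma.hom_ext _ _ fun k => by simp
  inv_hom_id := Sigma.hom_ext _ _ fun k => Sigma.hom_ext _ _ fun l => by simp

include D

/-- Two locally finite filtrations have graded objects with the same class. -/
theorem clQ_gr_eq (F' : Fl P Q V M) : KZero.clSub Q F.gr = KZero.clSub Q F'.gr := by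
  haveI : ∀ k, Mono (F.inc k) := F.mono_inc
  haveI : ∀ k, Mono (F'.inc k) := F'.mono_inc
  let B : ℕ → ℕ → A := fun k l => pullback (F.inc k) (F'.inc l)
  have hBP : ∀ k l, P (B k l) := fun k l => by
    let g := F.inc k ≫ cokernel.π (F'.inc l)
    have hM : P M := isoP D F.e (F.memP 0)
    let a : B k l ⟶ kernel g := kernel.lift g (pullback.fst _ _) (by
      simp [g, pullback.condition_assoc])
    have hlift : (kernel.ι g ≫ F.inc k) ≫ cokernel.π (F'.inc l) = 0 :=
      (Category.assoc _ _ _).trans (kernel.condition g)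
    let b : kernel g ⟶ B k l := pullback.lift (kernel.ι g)
      ((shortExact_of_mono (F'.inc l)).exact.lift (kernel.ι g ≫ F.inc k) hlift)
      ((shortExact_of_mono (F'.inc l)).exact.lift_f _ hlift).symm
    refine isoP D (X := kernel g) ⟨b, a, ?_, ?_⟩ (D.dev.kerP g (F.memP k) (D.dev.cokerP _ (F'.memP l) hM))
    · have h1 : b ≫ pullback.fst (F.inc k) (F'.inc l) = kernel.ι g := pullback.lift_fst _ _ _
      rw [← cancel_mono (kernel.ι g), Category.assoc, kernel.lift_ι, h1, Category.id_comp]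
    · have h1 : b ≫ pullback.fst (F.inc k) (F'.inc l) = kernel.ι g := pullback.lift_fst _ _ _
      have h2 : (a ≫ b) ≫ pullback.fst (F.inc k) (F'.inc l) = pullback.fst _ _ := by
        rw [Category.assoc, h1, kernel.lift_ι]
      refine pullback.hom_ext (h2.trans (Category.id_comp _).symm) ?_
      rw [← cancel_mono (F'.inc l), Category.assoc, ← pullback.condition, ← Category.assoc, h2,
        Category.id_comp, pullback.condition]
  let u₁ : ∀ k l, B (k + 1) l ⟶ B k l := fun k l =>
    pullback.lift (pullback.fst _ _ ≫ F.j k) (pullback.snd _ _) ((Category.assoc _ _ _).trans pullback.condition)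
  let u₂ : ∀ k l, B k (l + 1) ⟶ B k l := fun k l =>
    pullback.lift (pullback.fst _ _) (pullback.snd _ _ ≫ F'.j l) (pullback.condition.trans (Category.assoc _ _ _).symm)
  rw [F.refine_side D F' B hBP (fun k l => pullback.fst _ _) (fun k l => pullback.snd _ _)
      (fun k l => IsPullback.of_hasPullback _ _) u₁ u₂ (fun k l => pullback.lift_fst _ _ _)
      (fun k l => pullback.lift_snd _ _ _) (fun k l => pullback.lift_fst _ _ _),
    F'.refine_side D F (fun l k => B k l) (fun l k => hBP k l) (fun l k => pullback.snd _ _)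
      (fun l k => pullback.fst _ _) (fun l k => (IsPullback.of_hasPullback _ _).flip)
      (fun l k => u₂ k l) (fun l k => u₁ k l) (fun l k => pullback.lift_snd _ _ _)
      (fun l k => pullback.lift_fst _ _ _) (fun l k => pullback.lift_snd _ _ _)]
  let E : ℕ → ℕ → A := fun k l => cokernel (biprod.desc (u₁ k l) (u₂ k l))
  let e : ∀ k l, E k l ≅ cokernel (biprod.desc (u₂ k l) (u₁ k l)) := fun k l =>
    cokernel.mapIso _ _ (biprod.braiding _ _) (Iso.refl _) (by ext <;> simp)
  let φ : (∐ fun l => ∐ fun k => E k l) ≅ ∐ fun k => ∐ fun l => cokernel (biprod.desc (u₂ k l) (u₁ k l)) :=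
    sigmaSwap E ≪≫ Limits.Sigma.mapIso fun k => Limits.Sigma.mapIso fun l => e k l
  by_cases h : Q (∐ fun l => ∐ fun k => E k l)
  · exact clQ_iso D φ h
  · rw [KZero.clSub, KZero.clSub, dif_neg h, dif_neg fun h' => h (isoQ' D φ.symm h')]

end Fl

section main

variable (D : LFData P Q V)

include D

theorem exists_kernel_step (G : {M : A // P M}) :
    ∃ (T : {M : A // P M}) (j : T.1 ⟶ G.1), Mono j ∧ Q (cokernel j) ∧
      ∀ (R : A) (g : G.1 ⟶ R), Q R → j ≫ g = 0 := by
  obtain ⟨R, η, hR, hη, h⟩ := D.refl G.1 G.2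
  refine ⟨⟨kernel η, D.dev.kerP η G.2 (D.dev.le _ hR)⟩, kernel.ι η, inferInstance, ?_, fun R' g hR' => ?_⟩
  · exact isoQ' D ((shortExact_of_epi η).gIsCokernel.coconePointUniqueUpToIso (colimit.isColimit _)) hR
  · obtain ⟨g', rfl⟩ := h R' g hR'
    rw [kernel.condition_assoc, zero_comp]

omit D

/-- The kernel of the map to the largest quotient in `Q`. -/
noncomputable def stepT (D : LFData P Q V) (G : {M : A // P M}) : {M : A // P M} :=
  (exists_kernel_step D G).choose

/-- The inclusion of `stepT`. -/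
noncomputable def stepJ (D : LFData P Q V) (G : {M : A // P M}) : (stepT D G).1 ⟶ G.1 :=
  (exists_kernel_step D G).choose_spec.choose

/-- The iterated `stepT`. -/
noncomputable def seqT (D : LFData P Q V) (G : {M : A // P M}) : ℕ → {M : A // P M}
  | 0 => G
  | k + 1 => stepT D (seqT D G k)

theorem stepJ_spec (D : LFData P Q V) (G : {M : A // P M}) :
    Mono (stepJ D G) ∧ Q (cokernel (stepJ D G)) ∧
      ∀ (R : A) (g : G.1 ⟶ R), Q R → stepJ D G ≫ g = 0 :=
  (exists_kernel_step D G).choose_spec.choose_spec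

/-- The canonical filtration. -/
noncomputable def canon (D : LFData P Q V) (G : A) (hG : P G) : Fl P Q V G where
  obj k := (seqT D ⟨G, hG⟩ k).1
  j k := stepJ D _
  mono k := (stepJ_spec D _).1
  e := Iso.refl _
  memP k := (seqT D ⟨G, hG⟩ k).2
  cokQ k := (stepJ_spec D _).2.1
  small := D.nilp _ (fun k => stepJ D _) (fun k => (stepJ_spec D _).1) (fun k => (seqT D ⟨G, hG⟩ k).2)
    fun k R g hR => (stepJ_spec D _).2.2 R g hR

theorem exists_map_step (D : LFData P Q V) (X Y : {M : A // P M}) (t : X.1 ⟶ Y.1) [Epi t] :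
    ∃ t' : (stepT D X).1 ⟶ (stepT D Y).1, Epi t' ∧ t' ≫ stepJ D Y = stepJ D X ≫ t := by
  obtain ⟨hjm, hjQ, hjmin⟩ := stepJ_spec D Y
  haveI := hjm
  obtain ⟨hXm, hXQ, hXmin⟩ := stepJ_spec D X
  have h0 : (stepJ D X ≫ t) ≫ cokernel.π (stepJ D Y) = 0 :=
    (Category.assoc _ _ _).trans (hXmin _ _ hjQ)
  let t' := (shortExact_of_mono (stepJ D Y)).exact.lift (stepJ D X ≫ t) h0
  have ht' : t' ≫ stepJ D Y = stepJ D X ≫ t := (shortExact_of_mono (stepJ D Y)).exact.lift_f _ _
  refine ⟨t', ?_, ht'⟩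
  let π := cokernel.π (stepJ D X ≫ t)
  let b : cokernel (stepJ D X) ⟶ cokernel (stepJ D X ≫ t) :=
    cokernel.desc _ (t ≫ π) (by rw [← Category.assoc]; exact cokernel.condition _)
  haveI : Epi b := by
    haveI : Epi (cokernel.π (stepJ D X) ≫ b) := by rw [cokernel.π_desc]; exact epi_comp _ _
    exact epi_of_epi (cokernel.π (stepJ D X)) b
  have hW := quotQ D b hXQ (D.dev.cokerP _ (stepT D X).2 Y.2)
  rw [epi_iff_surjective_up_to_refinements]
  intro W x
  obtain ⟨W', r, hr, y, hy⟩ := (ShortComplex.exact_cokernel (stepJ D X ≫ t)).exact_up_to_refinements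
    (x ≫ stepJ D Y) (by
      dsimp
      rw [Category.assoc, hjmin _ _ hW, comp_zero])
  dsimp at y hy
  refine ⟨W', r, hr, y, ?_⟩
  rw [← cancel_mono (stepJ D Y), Category.assoc, hy, Category.assoc, ht']

theorem exists_seq_map (D : LFData P Q V) (X Y : {M : A // P M}) (g : X.1 ⟶ Y.1) [Epi g] :
    ∃ t : ∀ k, (seqT D X k).1 ⟶ (seqT D Y k).1, t 0 = g ∧ (∀ k, Epi (t k)) ∧
      ∀ k, t (k + 1) ≫ stepJ D (seqT D Y k) = stepJ D (seqT D X k) ≫ t k := by
  let T : ∀ k, {t : (seqT D X k).1 ⟶ (seqT D Y k).1 // Epi t} := fun k =>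
    Nat.rec (motive := fun k => {t : (seqT D X k).1 ⟶ (seqT D Y k).1 // Epi t})
      ⟨g, inferInstanceAs (Epi g)⟩
      (fun n t => haveI := t.2; ⟨(exists_map_step D _ _ t.1).choose, (exists_map_step D _ _ t.1).choose_spec.1⟩) k
  exact ⟨fun k => (T k).1, rfl, fun k => (T k).2, fun k => by
    haveI := (T k).2
    exact (exists_map_step D _ _ (T k).1).choose_spec.2⟩

theorem canon_additive (D : LFData P Q V) {S : ShortComplex A} (hS : S.ShortExact)
    (h₁ : P S.X₁) (h₂ : P S.X₂) (h₃ : P S.X₃) :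
    KZero.clSub Q (canon D S.X₂ h₂).gr =
      KZero.clSub Q (canon D S.X₁ h₁).gr + KZero.clSub Q (canon D S.X₃ h₃).gr := by
  haveI := hS.epi_g
  haveI := hS.mono_f
  let F := canon D S.X₂ h₂
  let F'' := canon D S.X₃ h₃
  haveI := F.mono
  haveI := F''.mono
  obtain ⟨t, ht0, htepi, htj⟩ := exists_seq_map D ⟨S.X₂, h₂⟩ ⟨S.X₃, h₃⟩ S.g
  let t : ∀ k, F.obj k ⟶ F''.obj k := t
  have htj : ∀ k, F.j k ≫ t k = t (k + 1) ≫ F''.j k := fun k => (htj k).symm
  haveI : ∀ k, Epi (t k) := htepi
  let T : ∀ k, cokernel (F.j k) ⟶ cokernel (F''.j k) := fun k => cokernel.map _ _ (t (k + 1)) (t k) (htj k)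
  let φ : ∀ k, ShortComplex.mk (F.j k) (cokernel.π (F.j k)) (cokernel.condition _) ⟶
      ShortComplex.mk (F''.j k) (cokernel.π (F''.j k)) (cokernel.condition _) := fun k =>
    { τ₁ := t (k + 1), τ₂ := t k, τ₃ := T k, comm₁₂ := (htj k).symm, comm₂₃ := by simp [T] }
  have hK : ∀ k, (kernelsSeq (φ k)).ShortExact := fun k => by
    haveI : Epi (φ k).τ₁ := htepi (k + 1)
    exact kernelsSeq_shortExact (φ k) (shortExact_of_mono (F.j k)) (shortExact_of_mono (F''.j k))
  haveI : ∀ k, Epi (T k) := fun k => by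
    haveI : Epi (cokernel.π (F.j k) ≫ T k) := by simp only [T, cokernel.π_desc]; exact epi_comp _ _
    exact epi_of_epi (cokernel.π (F.j k)) (T k)
  have hTQ : ∀ k, Q (kernel (T k)) := fun k => subQ D (kernel.ι _)
    (D.dev.kerP _ (D.dev.le _ (F.cokQ k)) (D.dev.le _ (F''.cokQ k))) (F.cokQ k)
  let eK : ∀ k, kernel (T k) ≅ cokernel (kernelsSeq (φ k)).f := fun k =>
    (hK k).gIsCokernel.coconePointUniqueUpToIso (colimit.isColimit _)
  let K : Fl P Q V S.X₁ :=
    { obj := fun k => kernel (t k)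
      j := fun k => (kernelsSeq (φ k)).f
      mono := fun k => (hK k).mono_f
      e := kernelIsoOfEq ht0 ≪≫ (kernelIsKernel S.g).conePointUniqueUpToIso hS.fIsKernel
      memP := fun k => D.dev.kerP _ (F.memP k) (F''.memP k)
      cokQ := fun k => isoQ' D (eK k) (hTQ k)
      small := fun i => by
        obtain ⟨n, hn⟩ := F.small i
        exact ⟨n, fun k hk => D.vmono i (kernel.ι (t k)) inferInstance
          (D.dev.kerP _ (F.memP k) (F''.memP k)) (F.memP k) (hn k hk)⟩ }
  have hTs : Small V fun k => kernel (T k) := fun i => by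
    obtain ⟨n, hn⟩ := F.small_coker D i
    exact ⟨n, fun k hk => D.vmono i (kernel.ι (T k)) inferInstance (D.dev.le _ (hTQ k))
      (D.dev.le _ (F.cokQ k)) (hn k hk)⟩
  have hsum := clSub_ses Q (sigma_shortExact (fun k => kernel.ι (T k)) T (fun k => kernel.condition _)
    fun k => shortExact_of_epi (T k)) (D.sumQ _ hTQ hTs) (F.gr_mem D) (F''.gr_mem D)
  refine hsum.trans (congrArg (· + KZero.clSub Q F''.gr) ?_)
  exact (clQ_iso D (Limits.Sigma.mapIso eK) (D.sumQ _ hTQ hTs)).trans (K.clQ_gr_eq D (canon D S.X₁ h₁))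

/-- Dévissage: the inclusion of `Q` in `P` induces an isomorphism on `K₀`. -/
theorem devissage_equiv_lf (D : LFData P Q V) :
    ∃ φ : KZero.K0sub Q ≃+ KZero.K0sub P, ∀ X, Q X → φ (KZero.clSub Q X) = KZero.clSub P X := by
  classical
  obtain ⟨f, hf⟩ := exists_liftSub Q (fun X => KZero.clSub P X) fun S hS a b c =>
    clSub_ses P hS (D.dev.le _ a) (D.dev.le _ b) (D.dev.le _ c)
  obtain ⟨g, hg⟩ := exists_liftSub P
    (fun X => if h : P X then KZero.clSub Q (canon D X h).gr else 0) fun S hS a b c => by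
      rw [dif_pos a, dif_pos b, dif_pos c]; exact canon_additive D hS a b c
  refine ⟨AddMonoidHom.toAddEquiv f g (K0sub_hom_ext Q fun X hX => ?_) (K0sub_hom_ext P fun X hX => ?_),
    fun X hX => hf X hX⟩
  · rw [AddMonoidHom.comp_apply, hf X hX, hg X (D.dev.le _ hX), dif_pos (D.dev.le _ hX), AddMonoidHom.id_apply]
    exact (canon D X _).clQ_gr D hX
  · rw [AddMonoidHom.comp_apply, hg X hX, dif_pos hX, AddMonoidHom.id_apply, hf _ ((canon D X hX).gr_mem D)]
    exact ((canon D X hX).clP_gr D).symm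

end main

end Groth.Agent.KZ.LF
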